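import Groth.Agent.BddFin.K190.GalCoch
import Groth.Agent.BddFin.K843.TorusMain
import Groth.Agent.Agf.H609.GrothFinal
import Groth.Agent.Sga3B.RG.Rel885

/-!
# Maximal tori over the ground field of Galois stable subgroups

* `exists_torus_data`: a Galois stable closed connected subgroup `P` of `G_K` contains a torus `S`,
  maximal among the tori of `P`, which is defined over `k`; `S` is split by a finite Galois
  extension `L` of `k`.
-/

set_option autoImplicit false

universe u

open WithConv TensorProduct Coalgebra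
open scoped LaurentPolynomial
open Groth.Agent.Sga3A Groth.Agent.Sga3A.MTBasis
open Groth.Agent.Sga3B Groth.Agent.Sga3B.RG Groth.Agent.Sga3B.TorusEtLoc920
open Groth.Agent.Agf.H612.GalPts Groth.Agent.Agf.H612.GalRed Groth.Agent.Agf.H612.GalSub
open Groth.Agent.Agf.H612.GalQuot
open K843.TorusAlg K843.TorusDesc K190.GalMax K190.GalCoch

namespace K190.TorData

section F

variable {K A L M : Type u} [Field K] [CommRing A] [HopfAlgebra K A] [Field L] [Algebra K L]
  [CommGroup M] (g : GBasis L (L ⊗[K] A) M) {G : Type*} [CommGroup G] (ψ : M →* G)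

theorem F_injective (h : Function.Injective ψ) : Function.Injective (F g ψ) := by
  have h1 : Function.Injective (MonoidAlgebra.mapDomainBialgHom L ψ) :=
    MonoidAlgebra.mapDomain_injective h
  exact h1.comp g.bialgEquiv.symm.injective

theorem F_surjective (h : Function.Surjective ψ) : Function.Surjective (F g ψ) := by
  intro y
  change y ∈ LinearMap.range ((F g ψ : L ⊗[K] A →ₐ[L] MonoidAlgebra L G).toLinearMap)
  induction y using MonoidAlgebra.induction_linear with
  | zero => exact Submodule.zero_mem _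
  | add a b ha hb => exact Submodule.add_mem _ ha hb
  | single m k =>
    have : MonoidAlgebra.single m k = k • MonoidAlgebra.single m (1 : L) := by
      rw [MonoidAlgebra.smul_single, smul_eq_mul, mul_one]
    rw [this]
    obtain ⟨m', rfl⟩ := h m
    exact Submodule.smul_mem _ _ ⟨g.b m', F_b g ψ m'⟩

end F

variable {k K : Type u} [Field k] [Field K] [Algebra k K]
variable {B : Type u} [CommRing B] [HopfAlgebra k B]

/-- The Hopf algebra of a torus defined over `k`. -/
theorem exists_quotient [IsAlgClosed K] [Algebra.FiniteType k B]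
    {S : Subgroup (Pt K (K ⊗[k] B))} (hS : IsTorusSub S)
    (hd : Groth.Agent.Agf.H601.IsDef k K (vanIdeal (S : Set (Pt K (K ⊗[k] B))))) :
    ∃ (C : Type u) (_ : CommRing C) (_ : HopfAlgebra k C) (f : B →ₐc[k] C) (n : ℕ)
      (_ : GBasis K (K ⊗[k] C) (Mu.{u} n)), Function.Surjective f ∧
      ∀ a : K ⊗[k] B, bcHom K f a = 0 ↔ a ∈ vanIdeal (S : Set (Pt K (K ⊗[k] B))) := by
  have hJH : ((vanIdeal (S : Set (Pt K (K ⊗[k] B)))).comap
      (Algebra.TensorProduct.includeRight : B →ₐ[k] K ⊗[k] B)).IsHopfIdeal k := by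
    apply isHopfIdeal_of_map (K := K)
    have h1 : (((vanIdeal (S : Set (Pt K (K ⊗[k] B)))).comap
      (Algebra.TensorProduct.includeRight : B →ₐ[k] K ⊗[k] B)).map
      (Algebra.TensorProduct.includeRight : B →ₐ[k] K ⊗[k] B)) =
        vanIdeal (S : Set (Pt K (K ⊗[k] B))) := hd
    rw [h1]
    infer_instance
  set J : Ideal B := (vanIdeal (S : Set (Pt K (K ⊗[k] B)))).comap
      (Algebra.TensorProduct.includeRight : B →ₐ[k] K ⊗[k] B) with hJ
  let f : B →ₐc[k] B ⧸ J := Bialgebra.Quotient.mkBialgHom J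
  have hf : Function.Surjective f := Ideal.Quotient.mk_surjective
  have hker : ∀ a : K ⊗[k] B, bcHom K f a = 0 ↔ a ∈ vanIdeal (S : Set (Pt K (K ⊗[k] B))) := by
    intro a
    have h1 := Algebra.TensorProduct.lTensor_ker (A := K) (f : B →ₐ[k] B ⧸ J) hf
    have h2 : RingHom.ker (f : B →ₐ[k] B ⧸ J) = J := by
      ext x
      exact Ideal.Quotient.eq_zero_iff_mem
    rw [h2] at h1
    have h3 : J.map (Algebra.TensorProduct.includeRight : B →ₐ[k] K ⊗[k] B) =
        vanIdeal (S : Set (Pt K (K ⊗[k] B))) := hd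
    rw [h3] at h1
    rw [← h1]
    rfl
  obtain ⟨n, π, hπ, hSπ⟩ := hS
  have hkπ : ∀ a : K ⊗[k] B, bcHom K f a = 0 ↔ π a = 0 := by
    intro a
    rw [hker]
    constructor
    · intro h
      apply eq_zero_of_forall_pt (K := K)
      intro x
      exact h (Pt.map π x) (by rw [hSπ]; exact ⟨x, rfl⟩)
    · intro h s hs
      rw [hSπ] at hs
      obtain ⟨x, rfl⟩ := hs
      rw [Pt.map_apply, h]
      exact map_zero x.ofConv
  have hbs : Function.Surjective (bcHom K f) := by
    intro z
    induction z using TensorProduct.induction_on with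
    | zero => exact ⟨0, map_zero _⟩
    | tmul x y =>
      obtain ⟨b, rfl⟩ := hf y
      exact ⟨x ⊗ₜ b, rfl⟩
    | add x y hx hy =>
      obtain ⟨a, rfl⟩ := hx
      obtain ⟨b, rfl⟩ := hy
      exact ⟨a + b, map_add _ _ _⟩
  obtain ⟨χ, hχ⟩ := exists_bialgHom_factor hbs (ψ := π) (fun a ha => (hkπ a).1 ha)
  have hχa : ∀ a, χ (bcHom K f a) = π a := fun a => by rw [← hχ]; rfl
  have hbij : Function.Bijective χ := by
    refine ⟨?_, fun y => ?_⟩
    · rw [injective_iff_map_eq_zero]
      intro z hz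
      obtain ⟨a, rfl⟩ := hbs z
      rw [hχa] at hz
      exact (hkπ a).2 hz
    · obtain ⟨a, rfl⟩ := hπ y
      exact ⟨bcHom K f a, hχa a⟩
  let e : K ⊗[k] (B ⧸ J) ≃ₐc[K] MonoidAlgebra K (Multiplicative (Fin n → ℤ)) :=
    BialgEquiv.ofBijective χ hbij
  exact ⟨B ⧸ J, inferInstance, inferInstance, f, n,
    (GBasis.ofBialgEquiv e).reindex MulEquiv.ulift.symm, hf, hker⟩

/-- **Maximal tori over `k` of Galois stable subgroups.** -/
theorem exists_torus_data [IsAlgClosed K] [Algebra.IsAlgebraic k K] [Algebra.FiniteType k B]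
    [IsReduced (K ⊗[k] B)]
    (hfix : ∀ c : K, (∀ σ : K ≃ₐ[k] K, σ c = c) → c ∈ (algebraMap k K).range)
    {P : Subgroup (Pt K (K ⊗[k] B))} (hcl : IsCl (P : Set (Pt K (K ⊗[k] B))))
    (hc : IsConn (P : Set (Pt K (K ⊗[k] B)))) (hst : Stab P) :
    ∃ (C : Type u) (_ : CommRing C) (_ : HopfAlgebra k C) (f : B →ₐc[k] C) (n : ℕ)
      (L : Type u) (_ : Field L) (_ : Algebra k L) (gL : GBasis L (L ⊗[k] C) (Mu.{u} n))
      (j : L →ₐ[k] K), Function.Surjective f ∧ FiniteDimensional k L ∧ IsGalois k L ∧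
        Function.Surjective (pi (gL.bc j) f) ∧ IsMaxTorusIn P (Pt.map (pi (gL.bc j) f)).range := by
  obtain ⟨S, hSP, hS, hd, hmax⟩ := Groth.Agent.Agf.H609.DefMax.exists_maxTor_le
    (Groth.Agent.Agf.H609.GrothFinal.allTor k K) hcl hc
    (map_comap_vanIdeal hfix (S := (P : Set (Pt K (K ⊗[k] B)))) hst)
  obtain ⟨C, _, _, f, n, g₀, hf, hker⟩ := exists_quotient hS hd
  obtain ⟨T', _, _, _, _, _, hT'⟩ := MTKey.exists_etale_cover g₀
  have : Nontrivial T' := by
    have h1 := (Module.FaithfullyFlat.iff_flat_and_rTensor_reflects_triviality k T').mp inferInstance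
    by_contra hB
    rw [not_nontrivial_iff_subsingleton] at hB
    have : Subsingleton k := h1.2 k inferInstance
    exact not_subsingleton k this
  obtain ⟨L, _, _, hfin, hgal, ⟨φ⟩⟩ := K843.TorusMain.exists_galois_of_etale (K := k) T'
  let _ : Algebra T' L := φ.toRingHom.toAlgebra
  have : IsScalarTower k T' L := IsScalarTower.of_algebraMap_eq' φ.comp_algebraMap.symm
  obtain ⟨gL⟩ := hT' L
  let j : L →ₐ[k] K := IsAlgClosed.lift
  have hbs : Function.Surjective (bcHom K f) := by
    intro z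
    induction z using TensorProduct.induction_on with
    | zero => exact ⟨0, map_zero _⟩
    | tmul x y =>
      obtain ⟨b, rfl⟩ := hf y
      exact ⟨x ⊗ₜ b, rfl⟩
    | add x y hx hy =>
      obtain ⟨a, rfl⟩ := hx
      obtain ⟨b, rfl⟩ := hy
      exact ⟨a + b, map_add _ _ _⟩
  have hps : Function.Surjective (pi (gL.bc j) f) :=
    (F_surjective (gL.bc j) _ MulEquiv.ulift.surjective).comp hbs
  have hpk : ∀ a, pi (gL.bc j) f a = 0 ↔ a ∈ vanIdeal (S : Set (Pt K (K ⊗[k] B))) := by
    intro a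
    rw [← hker]
    exact map_eq_zero_iff _ (F_injective (gL.bc j) _ MulEquiv.ulift.injective)
  have hrange : (Pt.map (pi (gL.bc j) f)).range = S := by
    apply SetLike.coe_injective
    rw [Pt.range_map hps]
    have h1 : RingHom.ker (pi (gL.bc j) f :
        K ⊗[k] B →ₐ[K] MonoidAlgebra K (Multiplicative (Fin n → ℤ))) =
        vanIdeal (S : Set (Pt K (K ⊗[k] B))) := by
      ext a
      exact hpk a
    rw [h1]
    exact hS.isCl.eq
  refine ⟨C, inferInstance, inferInstance, f, n, L, inferInstance, inferInstance, gL, j, hf, hfin,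
    hgal, hps, ?_⟩
  rw [hrange]
  exact ⟨hS, hSP, hmax⟩

end K190.TorData
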