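import Groth.Agent.BddFin.K190.Opp
import Groth.Agent.BddFin.K190.TorData
import Groth.Agent.Agf.H612.GalMain
import Groth.Agent.Sga3B.RG.BcPt885

/-!
# Unipotent rational points and split tori (Borel–Tits)

* `exists_surj_of_unip`: a connected reductive group over a perfect field with a nontrivial
  unipotent rational point has a surjective homomorphism from its Hopf algebra onto that of `𝔾_m`;
* `exists_mono_of_torsion`: scheme form, for points of order divisible by the characteristic.
-/

set_option autoImplicit false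

universe u

open CategoryTheory MonoidalCategory CartesianMonoidalCategory MonObj GrpObj AlgebraicGeometry Limits
open WithConv TensorProduct Coalgebra
open scoped LaurentPolynomial
open Groth.Agent.Sga3A Groth.Agent.Sga3A.MTBasis
open Groth.Agent.Sga3B Groth.Agent.Sga3B.RG Groth.Agent.Sga3B.TorusEtLoc920
open Groth.Agent.Agf.H612.GalPts
open K190.GalMax K190.GalCoch K190.TorData

namespace K190.BTMain

section Pts

variable {k K : Type u} [Field k] [Field K] [Algebra k K] [IsAlgClosed K]
variable {B : Type u} [CommRing B] [HopfAlgebra k B] [Algebra.FiniteType k B]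

/-- Conjugation of `U(λ)`. -/
lemma conj_mem_Usub {A : Type u} [CommRing A] [HopfAlgebra K A] [Algebra.FiniteType K A]
    [_root_.IsReduced A] (p : Pt K A) {lam : A →ₐc[K] K[T;T⁻¹]} {g : Pt K A}
    (hg : g ∈ Usub lam) : p * g * p⁻¹ ∈ Usub (conjCoch p lam) := by
  rw [mem_Usub] at hg ⊢
  intro a
  obtain ⟨q, hq0, hq⟩ := hg (conjAlg p a)
  refine ⟨q, ?_, fun t => ?_⟩
  · rw [hq0, ← Pt.one_apply, ← Pt.one_apply, conjAlg_apply_pt]
    congr 1
    group
  · rw [← hq, conjAlg_apply_pt, cochPt_conjCoch]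
    congr 1
    group

/-- **Borel–Tits**, points form. -/
theorem exists_surj_of_unip [Algebra.IsAlgebraic k K] [IsDomain (K ⊗[k] B)]
    (hfix : ∀ c : K, (∀ σ : K ≃ₐ[k] K, σ c = c) → c ∈ (algebraMap k K).range)
    (hred : IsRedPt K (K ⊗[k] B)) {g : Pt K (K ⊗[k] B)}
    (hg : ∀ σ : K ≃ₐ[k] K, gal σ g = g) (hu : IsUnip g) (hne : g ≠ 1) :
    ∃ q : B →ₐc[k] MonoidAlgebra k (Multiplicative ℤ), Function.Surjective q := by
  obtain ⟨U, hUcl, hUc, hUu, hUne, hUst, hmax⟩ := exists_max hg hu hne
  obtain ⟨T₁, lam, hT₁, hT₁P, hlam, hUlam⟩ := Opp.exists_coch_of_max hred hUcl hUc hUu hmax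
  have hPst := stab_idComp (isCl_normalizer hUcl) (stab_normalizer hUst)
  have hPcl := isCl_idComp (Subgroup.normalizer (U : Set (Pt K (K ⊗[k] B))))
  have hPc := isConn_idComp (Subgroup.normalizer (U : Set (Pt K (K ⊗[k] B))))
  have hPU : idComp (Subgroup.normalizer (U : Set (Pt K (K ⊗[k] B)))) ≤
    Subgroup.normalizer (U : Set (Pt K (K ⊗[k] B))) := idComp_le (isCl_normalizer hUcl)
  obtain ⟨C, _, _, f, n, L, _, _, gL, j, hf, hfin, hgal, hps, hS⟩ :=
    exists_torus_data hfix hPcl hPc hPst
  obtain ⟨p, hpP, hp⟩ := ConjTori.exists_conj_of_le hPcl hPc hT₁.1 hT₁P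
    (fun S hS _ hle => hT₁.2 S hS hle) hS.1 hS.2.1 hS.2.2
  have hlam' : CochIn (conjCoch p lam) (Pt.map (pi (gL.bc j) f)).range := by
    intro t
    rw [cochPt_conjCoch, ← hp]
    exact ⟨_, hlam t, rfl⟩
  have hK : Infinite K := IsAlgClosed.instInfinite
  obtain ⟨l, hl⟩ := Parab.PbCoch.exists_cochOf (π := pi (gL.bc j) f) hps hlam'
  have hUl : U ≤ Usub (cochOf (pi (gL.bc j) f) l) := by
    rw [hl]
    intro u hu
    have h1 : p⁻¹ * u * p ∈ U := by
      have h2 := K493.NormSub.conj_mem_of_le_normalizer hPU (inv_mem hpP) hu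
      rwa [_root_.inv_inv] at h2
    have h2 := conj_mem_Usub p (hUlam h1)
    have h3 : p * (p⁻¹ * u * p) * p⁻¹ = u := by group
    rwa [h3] at h2
  obtain ⟨ψ, hψs, hψ⟩ := exists_invariant gL j f hUst hUne hUl
  exact ⟨(K843.TorusDesc.fb gL ψ hψ).comp f,
    (K843.TorusDesc.fb_surjective gL ψ hψ hψs).comp hf⟩

/-- An element of order `p` is unipotent in characteristic `p`. -/
theorem isUnip_of_pow {A : Type u} [CommRing A] [HopfAlgebra K A] [Algebra.FiniteType K A]
    [_root_.IsReduced A] (p : ℕ) [Fact p.Prime] [CharP K p] {g : Pt K A} (hg : g ^ p = 1) :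
    IsUnip g := by
  intro a
  refine ⟨p, ?_⟩
  have hpow : ∀ m : ℕ, (rTr g).toLinearMap ^ m = (rTr (g ^ m)).toLinearMap := by
    intro m
    induction m with
    | zero =>
      ext x
      rw [pow_zero, pow_zero]
      exact (rTr_one x).symm
    | succ m ih =>
      ext x
      rw [pow_succ, pow_succ, ih]
      exact (rTr_mul (g ^ m) g x).symm
  have h1 : ((rTr g).toLinearMap - 1) ^ p = (rTr g).toLinearMap ^ p - 1 ^ p := by
    have hc : CharP (Module.End K A) p := by
      have : Nontrivial A := ⟨⟨0, 1, fun h => by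
        have := congrArg g.ofConv h
        rw [map_zero, map_one] at this
        exact zero_ne_one this⟩⟩
      exact charP_of_injective_algebraMap (algebraMap K (Module.End K A)).injective p
    exact sub_pow_char_of_commute p (Commute.one_right _)
  rw [h1, hpow, hg, one_pow]
  rw [LinearMap.sub_apply]
  change rTr 1 a - a = 0
  rw [rTr_one, sub_self]

end Pts

section Sch

open Groth.Agent.Books.AffBridge Groth.Agent.Books.AffBridge2 Groth.Agent.Books
open Groth.Agent.Sga3B.RG.BrPts
open Groth.Agent.Books.AlgPtsGrp Groth.Agent.Books.AlgPtsIrred Groth.Agent.Books.AlgPtsSmooth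
open Groth.Agent.Agf Groth.Agent.Agf.H612 Groth.Agent.Agf.H612.GalMain Groth.Agent.Agf.H612.GalSub

variable {k : Type u} [Field k]

/-- The geometric fibre of a reductive group, in the sense of points. -/
theorem isRedPt_of_isReductive {B : Type u} [CommRing B] [HopfAlgebra k B]
    [Algebra.FiniteType k B] (h : Red.IsReductive (SpecOver k B)) (s : Spec (CommRingCat.of k)) :
    IsDomain (Om k s ⊗[k] B) ∧ IsRedPt (Om k s) (Om k s ⊗[k] B) := by
  obtain ⟨e, he⟩ := Groth.Agent.Sga3B.BcSpec892.exists_iso k (Om k s) B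
  have h1 : Red.IsReductiveOver (Om k s) (Red.bc (Spec.map (CommRingCat.ofHom
      (algebraMap k (Om k s)))) (SpecOver k B)) := by
    rw [spec_map_algebraMap]
    exact h.2.2 s
  exact BrRed2.isReductiveOver_iff.1 (BrRed2.isReductiveOver_of_iso e h1)

/-- **Torsion points of anisotropic reductive groups over perfect fields**: a rational point of
order divisible by the characteristic gives a split torus. -/
theorem exists_mono_of_torsion [PerfectField k]
    (G : Over (Spec (CommRingCat.of k))) [GrpObj G] (hG : Red.IsReductive G)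
    [ConnectedSpace G.left] (x : 𝟙_ (Over (Spec (CommRingCat.of k))) ⟶ G) (hx : IsOfFinOrder x)
    (h0 : ((orderOf x : ℕ) : k) = 0) :
    ∃ i : Red.Gm (Spec (CommRingCat.of k)) ⟶ G, IsMonHom i ∧ Mono i := by
  have haff : IsAffine G.left := by
    have := hG.1
    exact isAffine_of_isAffineHom G.hom
  have hsmG : Smooth G.hom := hG.2.1
  obtain ⟨B, _, _, e, he⟩ := exists_hopf k G
  have hsm : Smooth (SpecOver k B).hom := by
    rw [hom_eq_of_iso e.symm]
    infer_instance
  have hft : Algebra.FiniteType k B := (locallyOfFiniteType_specOver_iff k B).1 inferInstance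
  have hRB : Red.IsReductive (SpecOver k B) := AlgBc.isReductive_of_iso (Grp.mkIso' e) hG
  obtain ⟨hdom, hred⟩ := isRedPt_of_isReductive hRB (IsLocalRing.closedPoint k)
  have hfix := mem_range_of_fixed k (Om k (IsLocalRing.closedPoint k))
  -- the characteristic
  obtain ⟨p, hp⟩ := CharP.exists k
  have hpos : 0 < orderOf x := hx.orderOf_pos
  rcases CharP.char_is_prime_or_zero k p with hpp | hp0
  swap
  · subst hp0
    have := CharP.charP_to_charZero k
    exact absurd (Nat.cast_eq_zero.mp h0) hpos.ne'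
  have hpf : Fact p.Prime := ⟨hpp⟩
  rw [CharP.cast_eq_zero_iff k p] at h0
  obtain ⟨d, hd⟩ := h0
  have hd0 : d ≠ 0 := by
    rintro rfl
    rw [mul_zero] at hd
    omega
  -- a point of order `p`
  let y : WithConv (B →ₐ[k] k) := K843.TorusMain.ptsHom e (x ^ d)
  have hy1 : y ≠ 1 := by
    intro h
    have h1 : x ^ d = 1 := by
      apply K843.TorusMain.ptsHom_injective e
      rw [map_one]
      exact h
    have h2 := Nat.le_of_dvd (Nat.pos_of_ne_zero hd0) (orderOf_dvd_of_pow_eq_one h1)
    rw [hd] at h2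
    have := hpp.one_lt
    have h3 : 0 < d := Nat.pos_of_ne_zero hd0
    nlinarith
  have hyp : y ^ p = 1 := by
    change (K843.TorusMain.ptsHom e (x ^ d)) ^ p = 1
    rw [← map_pow, ← pow_mul, mul_comm, ← hd, pow_orderOf_eq_one, map_one]
  let g : Pt (Om k (IsLocalRing.closedPoint k)) (Om k (IsLocalRing.closedPoint k) ⊗[k] B) :=
    BcPt.extPt _ y
  have hg1 : g ≠ 1 := by
    intro h
    apply hy1
    apply BcPt.extPt_injective (L := Om k (IsLocalRing.closedPoint k))
    rw [map_one]
    exact h
  have hgp : g ^ p = 1 := by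
    change (BcPt.extPt _ y) ^ p = 1
    rw [← map_pow, hyp, map_one]
  have hgal : ∀ σ : Om k (IsLocalRing.closedPoint k) ≃ₐ[k] Om k (IsLocalRing.closedPoint k),
      gal σ g = g := by
    intro σ
    apply pt_ext
    intro b
    rw [gal_one_tmul]
    change σ (BcPt.extPt _ y (1 ⊗ₜ b)) = BcPt.extPt _ y (1 ⊗ₜ b)
    rw [BcPt.extPt_tmul, _root_.one_mul, AlgEquiv.commutes]
  have hchar : CharP (Om k (IsLocalRing.closedPoint k)) p :=
    charP_of_injective_algebraMap (algebraMap k (Om k (IsLocalRing.closedPoint k))).injective p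
  obtain ⟨q, hq⟩ := exists_surj_of_unip hfix hred hgal (isUnip_of_pow p hgp) hg1
  exact K843.TorusMain.exists_mono_of_surjective e q hq

end Sch

end K190.BTMain
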