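import Groth.Agent.BddFin.K190.UnipCent
import Groth.Agent.Agf.H612.GalPts

/-!
# Galois stable unipotent subgroups

`K` algebraically closed over `k` with `K ^ Aut (K/k) = k`, `B` a commutative Hopf algebra of
finite type over `k`.

* `exists_isURadIn`: every closed subgroup has a unipotent radical;
* `gal_mem_of_isURadIn`: the unipotent radical of a Galois stable subgroup is Galois stable;
* `exists_max`: if there is a nontrivial Galois stable unipotent point then there is a nontrivial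
  Galois stable closed connected unipotent subgroup `U` which contains the unipotent radical of the
  identity component of its normalizer.
-/

set_option autoImplicit false

universe u

open WithConv TensorProduct Coalgebra

namespace K190.GalMax

open Groth.Agent.Sga3B Groth.Agent.Sga3B.RG Groth.Agent.Sga3B.Parab.BorelPts172
open Groth.Agent.Agf.H612.GalPts
open K493.URad

section Rad

variable {K : Type u} [Field K] [IsAlgClosed K] {A : Type u} [CommRing A] [HopfAlgebra K A]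
  [Algebra.FiniteType K A] [IsReduced A]

/-- **The unipotent radical of a closed subgroup.** -/
theorem exists_isURadIn {P : Subgroup (Pt K A)} (hPcl : IsCl (P : Set (Pt K A))) :
    ∃ N : Subgroup (Pt K A), IsURadIn P N := by
  obtain ⟨N', hN', hmax⟩ := Groth.Agent.Agf.H593.UnipRad.exists_unipRad K
    (A ⧸ vanIdeal (P : Set (Pt K A)))
  have hsurj : Function.Surjective
    (Bialgebra.Quotient.mkBialgHom (R := K) (vanIdeal (P : Set (Pt K A)))) :=
      Ideal.Quotient.mk_surjective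
  have huniq : ∀ M : Subgroup (Pt K (A ⧸ vanIdeal (P : Set (Pt K A)))),
      (M.Normal ∧ IsCl (M : Set (Pt K (A ⧸ vanIdeal (P : Set (Pt K A))))) ∧
        IsConn (M : Set (Pt K (A ⧸ vanIdeal (P : Set (Pt K A))))) ∧ ∀ g ∈ M, IsUnip g) →
      M ≤ N' := by
    intro M hM
    obtain ⟨L, hL, h1, h2⟩ := exists_sup hN' hM
    rw [← hmax L hL h1]
    exact h2
  obtain ⟨hn, hcl, hconn, hu⟩ := hN'
  refine ⟨N'.map (quotMap (vanIdeal (P : Set (Pt K A)))), map_quotMap_le hPcl _, ?_,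
    IsCl.image_map hsurj hcl, hconn.image_map _, ?_, ?_⟩
  · apply K493.NormSub.le_normalizer_of_conj
    rintro g hg _ ⟨x, hx, rfl⟩
    obtain ⟨y, rfl⟩ := exists_quotMap_eq hPcl hg
    refine ⟨y * x * y⁻¹, ?_, by rw [map_mul, map_mul, map_inv]⟩
    exact hn.conj_mem x hx y
  · rintro _ ⟨x, hx, rfl⟩
    exact (hu x hx).map _
  · intro M hMP hMn hMcl hMc hMu
    have h0 := map_comap_quotMap hPcl hMP
    rw [← h0]
    refine Subgroup.map_mono (huniq _ ⟨⟨fun x hx y => ?_⟩, ?_, ?_, ?_⟩)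
    · rw [Subgroup.mem_comap, map_mul, map_mul, map_inv]
      exact K493.NormSub.conj_mem_of_le_normalizer hMn (quotMap_mem hPcl y) hx
    · exact IsCl.preimage_map (Bialgebra.Quotient.mkBialgHom (R := K)
        (vanIdeal (P : Set (Pt K A)))) hMcl
    · refine isConn_of_image_map hsurj ?_
      have h2 : (quotMap (vanIdeal (P : Set (Pt K A))) ''
        (M.comap (quotMap (vanIdeal (P : Set (Pt K A))))) : Set (Pt K A)) = M :=
          congrArg (fun H : Subgroup (Pt K A) => (H : Set (Pt K A))) h0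
      rw [h2]
      exact hMc
    · intro x hx
      exact BrRed.isUnip_of_map hsurj (hMu _ hx)

end Rad

section Gal

variable {k K : Type u} [Field k] [Field K] [Algebra k K]
variable {B : Type u} [CommRing B] [HopfAlgebra k B]

/-- A subgroup stable under the Galois action. -/
def Stab (H : Subgroup (Pt K (K ⊗[k] B))) : Prop := ∀ σ : K ≃ₐ[k] K, ∀ g ∈ H, gal σ g ∈ H

lemma coe_map_gal (σ : K ≃ₐ[k] K) (H : Subgroup (Pt K (K ⊗[k] B))) :
    ((H.map (gal σ).toMonoidHom : Subgroup (Pt K (K ⊗[k] B))) : Set (Pt K (K ⊗[k] B))) =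
      gal σ '' (H : Set (Pt K (K ⊗[k] B))) := rfl

/-- **The unipotent radical of a stable subgroup is stable.** -/
theorem gal_mem_of_isURadIn {P N : Subgroup (Pt K (K ⊗[k] B))} (hP : Stab P)
    (hN : IsURadIn P N) : Stab N := by
  intro σ g hg
  refine hN.max (N.map (gal σ).toMonoidHom) ?_ ?_ ?_ ?_ ?_ ⟨g, hg, rfl⟩
  · rintro _ ⟨x, hx, rfl⟩
    exact hP σ x (hN.le hx)
  · apply K493.NormSub.le_normalizer_of_conj
    rintro y hy _ ⟨x, hx, rfl⟩
    refine ⟨gal σ.symm y * x * (gal σ.symm y)⁻¹, ?_, ?_⟩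
    · exact K493.NormSub.conj_mem_of_le_normalizer hN.norm (hP _ y hy) hx
    · change gal σ (gal σ.symm y * x * (gal σ.symm y)⁻¹) = y * gal σ x * y⁻¹
      rw [map_mul, map_mul, map_inv, gal_gal_symm]
  · rw [coe_map_gal]
    exact isCl_gal σ hN.isCl
  · rw [coe_map_gal]
    exact isConn_gal σ hN.isConn
  · rintro _ ⟨x, hx, rfl⟩
    exact isUnip_gal σ (hN.isUnip x hx)

theorem stab_normalizer {H : Subgroup (Pt K (K ⊗[k] B))} (hH : Stab H) :
    Stab (Subgroup.normalizer (H : Set (Pt K (K ⊗[k] B)))) := by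
  intro σ g hg
  rw [Subgroup.mem_normalizer_iff] at hg ⊢
  intro x
  constructor
  · intro hx
    have h1 := hH σ _ ((hg _).1 (hH σ.symm x hx))
    rwa [map_mul, map_mul, map_inv, gal_gal_symm] at h1
  · intro hx
    have h1 := hH σ.symm _ hx
    rw [map_mul, map_mul, map_inv, gal_symm_gal] at h1
    have h2 := hH σ _ ((hg _).2 h1)
    rwa [gal_gal_symm] at h2

theorem stab_centralizer {g : Pt K (K ⊗[k] B)} (hg : ∀ σ : K ≃ₐ[k] K, gal σ g = g) :
    Stab (Subgroup.centralizer ({g} : Set (Pt K (K ⊗[k] B)))) := by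
  intro σ x hx
  rw [Subgroup.mem_centralizer_singleton_iff] at hx ⊢
  have h1 := congrArg (gal σ) hx
  rwa [map_mul, map_mul, hg] at h1

theorem stab_idComp [IsAlgClosed K] [Algebra.FiniteType k B] {H : Subgroup (Pt K (K ⊗[k] B))}
    (hcl : IsCl (H : Set (Pt K (K ⊗[k] B)))) (hH : Stab H) : Stab (idComp H) := by
  intro σ g hg
  have h1 : gal σ '' (idComp H : Set (Pt K (K ⊗[k] B))) ⊆ idComp H := by
    refine (isConn_gal σ (isConn_idComp H)).subset_idComp ⟨1, one_mem _, map_one _⟩ ?_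
    rintro _ ⟨x, hx, rfl⟩
    exact hH σ x (idComp_le hcl hx)
  exact h1 ⟨g, hg, rfl⟩

/-- **A Galois stable unipotent subgroup containing the unipotent radical of its connected
normalizer.** -/
theorem exists_max [IsAlgClosed K] [Algebra.FiniteType k B] [IsDomain (K ⊗[k] B)]
    {g : Pt K (K ⊗[k] B)} (hg : ∀ σ : K ≃ₐ[k] K, gal σ g = g) (hu : IsUnip g) (hne : g ≠ 1) :
    ∃ U : Subgroup (Pt K (K ⊗[k] B)), IsCl (U : Set (Pt K (K ⊗[k] B))) ∧
      IsConn (U : Set (Pt K (K ⊗[k] B))) ∧ (∀ x ∈ U, IsUnip x) ∧ U ≠ ⊥ ∧ Stab U ∧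
      ∀ M : Subgroup (Pt K (K ⊗[k] B)),
        M ≤ idComp (Subgroup.normalizer (U : Set (Pt K (K ⊗[k] B)))) →
        idComp (Subgroup.normalizer (U : Set (Pt K (K ⊗[k] B)))) ≤
          Subgroup.normalizer (M : Set (Pt K (K ⊗[k] B))) →
        IsCl (M : Set (Pt K (K ⊗[k] B))) → IsConn (M : Set (Pt K (K ⊗[k] B))) →
        (∀ x ∈ M, IsUnip x) → M ≤ U := by
  -- a nontrivial stable group
  obtain ⟨N₀, hN₀⟩ := exists_isURadIn
    (isCl_idComp (Subgroup.centralizer ({g} : Set (Pt K (K ⊗[k] B)))))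
  have hne₀ : N₀ ≠ ⊥ := by
    intro h
    apply hne
    refine UnipCent.eq_one_of_isRedSub hu ?_
    intro N h1 h2 h3 h4 h5
    rw [eq_bot_iff, ← h]
    exact hN₀.max N h1 h2 h3 h4 h5
  have hst₀ : Stab N₀ := gal_mem_of_isURadIn
    (stab_idComp (isCl_centralizer _) (stab_centralizer hg)) hN₀
  -- a maximal stable group
  obtain ⟨U, ⟨hUcl, hUc, hUu, hUst⟩, hmax⟩ :=
    Groth.Agent.Agf.H593.UnipRad.exists_maximal_isConn (K := K) (A := K ⊗[k] B)
      (fun N => IsCl (N : Set (Pt K (K ⊗[k] B))) ∧ IsConn (N : Set (Pt K (K ⊗[k] B))) ∧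
        (∀ x ∈ N, IsUnip x) ∧ Stab N)
      ⟨N₀, hN₀.isCl, hN₀.isConn, hN₀.isUnip, hst₀⟩ (fun N hN => ⟨hN.1, hN.2.1⟩)
  refine ⟨U, hUcl, hUc, hUu, ?_, hUst, ?_⟩
  · rintro rfl
    exact hne₀ (hmax N₀ ⟨hN₀.isCl, hN₀.isConn, hN₀.isUnip, hst₀⟩ bot_le)
  · obtain ⟨R, hR⟩ := exists_isURadIn
      (isCl_idComp (Subgroup.normalizer (U : Set (Pt K (K ⊗[k] B)))))
    have hRst : Stab R := gal_mem_of_isURadIn
      (stab_idComp (isCl_normalizer hUcl) (stab_normalizer hUst)) hR
    have hUR : U ≤ R := hR.max U (le_idComp hUc Subgroup.le_normalizer)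
      (idComp_le (isCl_normalizer hUcl)) hUcl hUc hUu
    have h1 := hmax R ⟨hR.isCl, hR.isConn, hR.isUnip, hRst⟩ hUR
    rw [← h1] at hR ⊢
    exact hR.max

end Gal

end K190.GalMax
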