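import Groth.Agent.BddFin.K843.TorusDesc
import Groth.Agent.BddFin.K843.Lattice
import Groth.Agent.Sga3B.Parab.PbCoch
import Groth.Agent.Sga3B.TorusEtLoc920
import Groth.Agent.Agf.H612.GalRed
import Groth.Agent.BddFin.K190.GalMax

/-!
# Galois conjugate cocharacters

`B → C` a surjective map of Hopf algebras over `k`, `L/k` an extension over which `C` becomes a
group algebra, `L → K` an embedding.

* `gal_mem_Usub`: if `σ ∈ Aut (K/k)` carries the cocharacter `λ` to `λ'` then it carries `U(λ)`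
  into `U(λ')`;
* `gal_cochPt`: the conjugate of the cocharacter given by `l` is given by `l ∘ σ⁻¹`;
* `exists_invariant`: if `U ≠ 1` is a Galois stable subgroup of `U(λ)` for a cocharacter `λ` of the
  torus defined by `C`, `L/k` finite Galois, then there is a surjective invariant homomorphism from
  the character group to `ℤ`.
-/

set_option autoImplicit false

universe u

open WithConv TensorProduct Coalgebra
open scoped LaurentPolynomial
open Groth.Agent.Sga3A Groth.Agent.Sga3A.MTBasis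
open Groth.Agent.Sga3B Groth.Agent.Sga3B.RG Groth.Agent.Sga3B.TorusEtLoc920
open Groth.Agent.Agf.H612.GalPts Groth.Agent.Agf.H612.GalRed Groth.Agent.Agf.H612.GalSub
open K843.TorusAlg K843.TorusDesc K190.GalMax

namespace K190.GalCoch

section Usub

variable {k K : Type u} [Field k] [Field K] [Algebra k K]
variable {B : Type u} [CommRing B] [HopfAlgebra k B]

lemma counit_act (σ : K ≃ₐ[k] K) (a : K ⊗[k] B) :
    counit (R := K) (act B σ a) = σ (counit (R := K) a) := by
  have h := gal_apply_act σ (1 : Pt K (K ⊗[k] B)) a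
  rw [map_one, Pt.one_apply, Pt.one_apply] at h
  exact h

/-- **Galois conjugation of `U(λ)`.** -/
theorem gal_mem_Usub {lam lam' : K ⊗[k] B →ₐc[K] K[T;T⁻¹]} {σ : K ≃ₐ[k] K}
    (h : ∀ t : Kˣ, gal σ (cochPt lam t) = cochPt lam' (Units.map (σ : K →* K) t))
    {u : Pt K (K ⊗[k] B)} (hu : u ∈ Usub lam) : gal σ u ∈ Usub lam' := by
  rw [mem_Usub] at hu ⊢
  intro a
  obtain ⟨p, hp0, hp⟩ := hu (act B σ.symm a)
  refine ⟨p.map (σ : K →+* K), ?_, fun t => ?_⟩
  · have h1 : (0 : K) = (σ : K →+* K) 0 := (map_zero (σ : K →+* K)).symm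
    rw [h1, Polynomial.eval_map_apply, hp0]
    change σ (counit (R := K) (act B σ.symm a)) = _
    rw [← counit_act, act_act_symm]
  · obtain ⟨s, rfl⟩ : ∃ s : Kˣ, Units.map (σ : K →* K) s = t :=
      ⟨Units.map (σ.symm : K →* K) t, Units.ext (σ.apply_symm_apply _)⟩
    rw [← h, ← map_inv, ← map_mul, ← map_mul]
    have h1 := gal_apply_act σ (cochPt lam s * u * (cochPt lam s)⁻¹) (act B σ.symm a)
    rw [act_act_symm, hp] at h1
    rw [h1]
    have h2 : ((Units.map (σ : K →* K) s : Kˣ) : K) = (σ : K →+* K) (s : K) := rfl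
    rw [h2, Polynomial.eval_map_apply]
    rfl

end Usub

section Conj

variable {k K : Type u} [Field k] [Field K] [Algebra k K]
variable {B C : Type u} [CommRing B] [HopfAlgebra k B] [CommRing C] [HopfAlgebra k C]
variable {n : ℕ} (g : GBasis K (K ⊗[k] C) (Mu.{u} n)) (f : B →ₐc[k] C)

/-- the characters of the torus as functions on `G_K` -/
noncomputable def pi : K ⊗[k] B →ₐc[K] MonoidAlgebra K (Multiplicative (Fin n → ℤ)) :=
  (F g (MulEquiv.ulift : Mu.{u} n ≃* Multiplicative (Fin n → ℤ)).toMonoidHom).comp (bcHom K f)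

/-- the Galois action on the lattice of characters -/
noncomputable def w (σ : K ≃ₐ[k] K) :
    Multiplicative (Fin n → ℤ) →* Multiplicative (Fin n → ℤ) :=
  (MulEquiv.ulift : Mu.{u} n ≃* Multiplicative (Fin n → ℤ)).toMonoidHom.comp
    ((actHom g σ : Mu.{u} n ≃* Mu.{u} n).toMonoidHom.comp
      (MulEquiv.ulift : Mu.{u} n ≃* Multiplicative (Fin n → ℤ)).symm.toMonoidHom)

lemma w_apply (σ : K ≃ₐ[k] K) (m : Multiplicative (Fin n → ℤ)) :
    w g σ m = (actHom g σ (ULift.up m)).down := rfl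

lemma w_symm_w (σ : K ≃ₐ[k] K) (m : Multiplicative (Fin n → ℤ)) : w g σ.symm (w g σ m) = m := by
  rw [w_apply, w_apply]
  have h1 : actHom g σ.symm (actHom g σ (ULift.up m)) = ULift.up m := by
    rw [← MulAut.mul_apply, ← map_mul]
    have : σ.symm * σ = 1 := inv_mul_cancel σ
    rw [this, map_one]
    rfl
  exact congrArg ULift.down h1

/-- evaluation of characters -/
lemma ev_F_bc (σ : K ≃ₐ[k] K) (t : Multiplicative (Fin n → ℤ) →* Kˣ) (z : K ⊗[k] C) :
    (torPt _ ((Units.map (σ : K →* K)).comp (t.comp (w g σ.symm))) :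
      Pt K (MonoidAlgebra K (Multiplicative (Fin n → ℤ))))
      (F g (MulEquiv.ulift : Mu.{u} n ≃* Multiplicative (Fin n → ℤ)).toMonoidHom
        (MTBasis.bc C (σ : K →ₐ[k] K) z)) =
    σ ((torPt _ t : Pt K (MonoidAlgebra K (Multiplicative (Fin n → ℤ))))
      (F g (MulEquiv.ulift : Mu.{u} n ≃* Multiplicative (Fin n → ℤ)).toMonoidHom z)) := by
  have key : ∀ (x : Pt K (MonoidAlgebra K (Multiplicative (Fin n → ℤ)))) (c : K)
      (y : MonoidAlgebra K (Multiplicative (Fin n → ℤ))), x (c • y) = c * x y :=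
    fun x c y => map_smul x.ofConv c y
  have key2 : ∀ (x : Pt K (MonoidAlgebra K (Multiplicative (Fin n → ℤ))))
      (y z : MonoidAlgebra K (Multiplicative (Fin n → ℤ))), x (y + z) = x y + x z :=
    fun x y z => map_add x.ofConv y z
  have key3 : ∀ (x : Pt K (MonoidAlgebra K (Multiplicative (Fin n → ℤ)))), x 0 = 0 :=
    fun x => map_zero x.ofConv
  have hz : z ∈ Submodule.span K (Set.range g.b) := by rw [g.b.span_eq]; trivial
  induction hz using Submodule.span_induction with
  | zero => simp only [map_zero]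
  | add a b _ _ ha hb => rw [map_add, map_add, key2, ha, hb, map_add, key2, map_add]
  | mem z hz =>
    obtain ⟨m, rfl⟩ := hz
    rw [bc_b', F_b, F_b, torPt_single, torPt_single, one_mul, one_mul]
    change σ ((t (w g σ.symm (w g σ m.down)) : Kˣ) : K) = σ ((t m.down : Kˣ) : K)
    rw [w_symm_w]
  | smul l z _ h =>
    rw [bc_smul, map_smul (F g _), map_smul (F g _), key, h, key, map_mul]
    rfl

lemma torPt_gal (σ : K ≃ₐ[k] K) (t : Multiplicative (Fin n → ℤ) →* Kˣ) :
    gal σ (Pt.map (pi g f) (torPt _ t)) =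
      Pt.map (pi g f) (torPt _ ((Units.map (σ : K →* K)).comp (t.comp (w g σ.symm)))) := by
  apply pt_ext
  intro b
  rw [gal_one_tmul]
  have h1 := ev_F_bc g σ t (bcHom K f (1 ⊗ₜ b))
  rw [bcHom_tmul, bc_tmul] at h1
  have h2 : (σ : K →ₐ[k] K) 1 = 1 := map_one σ
  rw [h2] at h1
  exact h1.symm

/-- **Galois conjugation of cocharacters.** -/
theorem gal_cochPt (σ : K ≃ₐ[k] K) (l : Multiplicative (Fin n → ℤ) →* Multiplicative ℤ) (t : Kˣ) :
    gal σ (cochPt (cochOf (pi g f) l) t) =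
      cochPt (cochOf (pi g f) (l.comp (w g σ.symm))) (Units.map (σ : K →* K) t) := by
  rw [cochPt_cochOf, cochPt_cochOf, torPt_gal]
  congr 2
  refine MonoidHom.ext fun m => Units.ext ?_
  change σ ((t ^ (l (w g σ.symm m)).toAdd : Kˣ) : K) =
    (((Units.map (σ : K →* K) t) ^ (l (w g σ.symm m)).toAdd : Kˣ) : K)
  rw [← map_zpow]
  rfl

end Conj

section Mul

variable {K : Type u} [Field K] [Infinite K] {A : Type u} [CommRing A] [HopfAlgebra K A]
variable {G : Type} [CommGroup G] (π : A →ₐc[K] MonoidAlgebra K G)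

/-- The cocharacters `λ` with `u ∈ U(λ)` form a convex cone. -/
theorem mem_Usub_mul {l l' : G →* Multiplicative ℤ} {u : Pt K A}
    (h : u ∈ Usub (cochOf π l)) (h' : u ∈ Usub (cochOf π l')) :
    u ∈ Usub (cochOf π (l * l')) := by
  rw [Parab.PbCoch.mem_Usub_cochOf_iff] at h h' ⊢
  have hadd : ∀ m, ((l * l') m).toAdd = (l m).toAdd + (l' m).toAdd := fun m => rfl
  refine ⟨fun m hm a ha => ?_, fun m hm a ha => ?_⟩
  · rw [hadd] at hm
    rcases lt_or_ge (l m).toAdd 0 with h1 | h1
    · exact h.1 m h1 a ha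
    · exact h'.1 m (by omega) a ha
  · rw [hadd] at hm
    rcases lt_trichotomy (l m).toAdd 0 with h1 | h1 | h1
    · rw [h.1 m h1 a ha, ConjGrade.counit_of_mem_gr π (by rintro rfl; simp at h1) ha]
    · exact h.2 m h1 a ha
    · rw [h'.1 m (by omega) a ha, ConjGrade.counit_of_mem_gr π (by rintro rfl; simp at h1) ha]

theorem mem_Usub_prod {ι : Type*} (s : Finset ι) (hs : s.Nonempty)
    {l : ι → (G →* Multiplicative ℤ)} {u : Pt K A}
    (h : ∀ i ∈ s, u ∈ Usub (cochOf π (l i))) : u ∈ Usub (cochOf π (∏ i ∈ s, l i)) := by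
  classical
  induction hs using Finset.Nonempty.cons_induction with
  | singleton i => rw [Finset.prod_singleton]; exact h i (Finset.mem_singleton_self i)
  | cons i s hi hs ih =>
    rw [Finset.prod_cons]
    exact mem_Usub_mul π (h i (Finset.mem_cons_self i s))
      (ih fun i' hi' => h i' (Finset.mem_cons_of_mem hi'))

/-- The trivial cocharacter. -/
theorem eq_one_of_mem_Usub_one {u : Pt K A} (h : u ∈ Usub (cochOf π 1)) : u = 1 := by
  rw [Parab.PbCoch.mem_Usub_cochOf_iff] at h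
  apply Parab.PbCoch.ext_gr π
  intro m a ha
  rw [Pt.one_apply]
  exact h.2 m rfl a ha

end Mul

section Invariant

variable {k K L : Type u} [Field k] [Field K] [Algebra k K] [Field L] [Algebra k L]
variable {B C : Type u} [CommRing B] [HopfAlgebra k B] [CommRing C] [HopfAlgebra k C]
variable {n : ℕ} (gL : GBasis L (L ⊗[k] C) (Mu.{u} n)) (j : L →ₐ[k] K) (f : B →ₐc[k] C)

theorem actHom_bc {σ : K ≃ₐ[k] K} {τ : L ≃ₐ[k] L} (h : ∀ x, σ (j x) = j (τ x))
    (m : Mu.{u} n) : actHom (gL.bc j) σ m = actHom gL τ m := by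
  apply (gL.bc j).b_injective
  rw [← bc_b', GBasis.bc_b, bc_bc, GBasis.bc_b, ← bc_b', bc_bc]
  congr 1
  congr 1
  exact AlgHom.ext h

theorem exists_lift [IsAlgClosed K] [Algebra.IsAlgebraic k K] (τ : L ≃ₐ[k] L) :
    ∃ σ : K ≃ₐ[k] K, ∀ x, σ (j x) = j (τ x) := by
  let _ : Algebra L K := j.toRingHom.toAlgebra
  have : IsScalarTower k L K := IsScalarTower.of_algebraMap_eq' j.comp_algebraMap.symm
  have : IsAlgClosure k K := ⟨inferInstance, inferInstance⟩
  have : Normal k K := IsAlgClosure.normal k K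
  exact ⟨τ.liftNormal K, fun x => τ.liftNormal_commutes K x⟩

/-- **A Galois invariant cocharacter.** -/
theorem exists_invariant [IsAlgClosed K] [Algebra.IsAlgebraic k K] [FiniteDimensional k L]
    {U : Subgroup (Pt K (K ⊗[k] B))} (hst : Stab U) (hne : U ≠ ⊥)
    {l : Multiplicative (Fin n → ℤ) →* Multiplicative ℤ}
    (hl : U ≤ Usub (cochOf (pi (gL.bc j) f) l)) :
    ∃ ψ : Mu.{u} n →* Multiplicative ℤ, Function.Surjective ψ ∧
      ∀ (τ : L ≃ₐ[k] L) m, ψ (actHom gL τ m) = ψ m := by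
  classical
  have hK : Infinite K := IsAlgClosed.instInfinite
  -- conjugates
  have h1 : ∀ τ : L ≃ₐ[k] L, ∃ l' : Multiplicative (Fin n → ℤ) →* Multiplicative ℤ,
      (∀ m : Mu.{u} n, l' m.down = l (actHom gL τ m).down) ∧
      U ≤ Usub (cochOf (pi (gL.bc j) f) l') := by
    intro τ
    obtain ⟨σ, hσ⟩ := exists_lift j τ
    refine ⟨l.comp (w (gL.bc j) σ), fun m => ?_, fun u hu => ?_⟩
    · rw [← actHom_bc gL j hσ m]
      rfl
    · have h2 := gal_mem_Usub (σ := σ.symm) (fun t => gal_cochPt (gL.bc j) f σ.symm l t)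
        (hl (hst σ u hu))
      rw [gal_symm_gal] at h2
      exact h2
  choose l' hl' hU' using h1
  let φ : Multiplicative (Fin n → ℤ) →* Multiplicative ℤ := ∏ τ : L ≃ₐ[k] L, l' τ
  have hφ : U ≤ Usub (cochOf (pi (gL.bc j) f) φ) := fun u hu =>
    mem_Usub_prod _ Finset.univ Finset.univ_nonempty fun τ _ => hU' τ hu
  have hφne : ∃ m, φ m ≠ 1 := by
    by_contra hcon
    push Not at hcon
    apply hne
    rw [eq_bot_iff]
    intro u hu
    have h2 : φ = 1 := MonoidHom.ext hcon
    have h3 := hφ hu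
    rw [h2] at h3
    exact eq_one_of_mem_Usub_one _ h3
  have hinv : ∀ (τ : L ≃ₐ[k] L) (m : Mu.{u} n), φ (actHom gL τ m).down = φ m.down := by
    intro τ m
    simp only [φ, MonoidHom.finsetProd_apply]
    simp only [hl']
    refine Fintype.prod_equiv (Equiv.mulRight τ) _ _ fun τ' => ?_
    rw [Equiv.coe_mulRight, map_mul]
    rfl
  obtain ⟨c, ψ, hc, hψs, hψ⟩ := K843.Lattice.exists_surjective φ hφne
  refine ⟨ψ.comp (MulEquiv.ulift : Mu.{u} n ≃* Multiplicative (Fin n → ℤ)).toMonoidHom,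
    hψs.comp (MulEquiv.ulift : Mu.{u} n ≃* Multiplicative (Fin n → ℤ)).surjective, fun τ m => ?_⟩
  have h2 := congrArg Multiplicative.toAdd (hinv τ m)
  rw [hψ, hψ] at h2
  exact Multiplicative.toAdd.injective (mul_left_cancel₀ hc h2)

end Invariant

end K190.GalCoch
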